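import Groth.Agent.S1134
import Groth.Agent.S0079
import Groth.Agent.S0081
import Mathlib.AlgebraicGeometry.ZariskisMainTheorem
import Mathlib.AlgebraicGeometry.Morphisms.LocalFlatDescent

/-!
# fpqc descent of étale schemes

Separated quasi-compact locally quasi-finite morphisms are quasi-affine (Zariski's main theorem),
so descent data with such structure maps are effective; étale, separated and quasi-compact descend.
-/

universe u

open CategoryTheory CategoryTheory.Limits AlgebraicGeometry

namespace Groth.Agent.FEtDesc

/-- Formally unramified morphisms of finite type are locally quasi-finite. -/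
theorem locallyQuasiFinite_of_formallyUnramified {X Y : Scheme.{u}} (f : X ⟶ Y)
    [FormallyUnramified f] [LocallyOfFiniteType f] : LocallyQuasiFinite f := by
  refine ⟨fun {U} hU {V} hV e => ?_⟩
  algebraize [(f.appLE U V e).hom]
  have h1 : (f.appLE U V e).hom.FormallyUnramified := FormallyUnramified.formallyUnramified_appLE f hU hV e
  have h2 : (f.appLE U V e).hom.FiniteType := LocallyOfFiniteType.finiteType_appLE f hU hV e
  algebraize [(f.appLE U V e).hom]
  exact (inferInstance : Algebra.QuasiFinite Γ(Y, U) Γ(X, V))

/-- Separated, quasi-compact, locally quasi-finite morphisms of finite type are quasi-affine. -/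
theorem isQuasiAffine_of_lqf {X Y : Scheme.{u}} (f : X ⟶ Y) [IsSeparated f] [QuasiCompact f]
    [LocallyQuasiFinite f] [LocallyOfFiniteType f] : Mor2.IsQuasiAffine f := by
  refine ⟨inferInstance, fun V hV => ?_⟩
  have : IsAffine (V : Scheme.{u}) := hV
  have : CompactSpace (f ⁻¹ᵁ V : Scheme.{u}) :=
    isCompact_iff_compactSpace.mp (f.isCompact_preimage hV.isCompact)
  have : IsSeparated (f ∣_ V) := MorphismProperty.of_isPullback (P := @IsSeparated) (isPullback_morphismRestrict f V).flip inferInstance
  have : QuasiCompact (f ∣_ V) := MorphismProperty.of_isPullback (P := @QuasiCompact) (isPullback_morphismRestrict f V).flip inferInstance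
  have : LocallyOfFiniteType (f ∣_ V) := MorphismProperty.of_isPullback (P := @LocallyOfFiniteType) (isPullback_morphismRestrict f V).flip inferInstance
  have : LocallyQuasiFinite (f ∣_ V) := MorphismProperty.of_isPullback (P := @LocallyQuasiFinite) (isPullback_morphismRestrict f V).flip inferInstance
  have : IsAffine (f ∣_ V).normalization := isAffine_of_isAffineHom (f ∣_ V).fromNormalization
  exact Scheme.IsQuasiAffine.of_isImmersion (f ∣_ V).toNormalization

/-- Effective fpqc descent for étale, separated, quasi-compact schemes. -/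
theorem exists_descend {S' S : Scheme.{u}} (g : S' ⟶ S) [Flat g] [Surjective g] [QuasiCompact g]
    (D : Desc.SchDD g) [QuasiCompact D.obj.hom] [IsSeparated D.obj.hom] [Etale D.obj.hom] :
    ∃ U : Over S, QuasiCompact U.hom ∧ IsSeparated U.hom ∧ Etale U.hom ∧
      Nonempty ((Desc.toDD g).obj U ≅ D) := by
  haveI := locallyQuasiFinite_of_formallyUnramified D.obj.hom
  obtain ⟨U, ⟨e⟩⟩ := Groth.Agent.S1134.result g D (isQuasiAffine_of_lqf D.obj.hom)
  let i : pullback g U.hom ≅ D.obj.left :=
    { hom := e.hom.hom.left
      inv := e.inv.hom.left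
      hom_inv_id := congrArg (fun k => k.hom.left) e.hom_inv_id
      inv_hom_id := congrArg (fun k => k.hom.left) e.inv_hom_id }
  haveI : IsIso i.hom := Iso.isIso_hom i
  have hi : i.hom ≫ D.obj.hom = pullback.fst g U.hom := Over.w e.hom.hom
  have hg : (@Surjective ⊓ @Flat ⊓ @QuasiCompact : MorphismProperty Scheme.{u}) g :=
    ⟨⟨inferInstance, inferInstance⟩, inferInstance⟩
  refine ⟨U, ?_, ?_, ?_, ⟨e⟩⟩
  · haveI := Groth.Agent.S0079.result.{u}
    exact MorphismProperty.of_pullback_fst_of_descendsAlong (P := @QuasiCompact) hg
      (hi ▸ (MorphismProperty.cancel_left_of_respectsIso @QuasiCompact i.hom D.obj.hom).mpr inferInstance)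
  · haveI := Groth.Agent.S0081.result.{u}
    exact MorphismProperty.of_pullback_fst_of_descendsAlong (P := @IsSeparated) hg
      (hi ▸ (MorphismProperty.cancel_left_of_respectsIso @IsSeparated i.hom D.obj.hom).mpr inferInstance)
  · exact MorphismProperty.of_pullback_fst_of_descendsAlong (P := @Etale) hg
      (hi ▸ (MorphismProperty.cancel_left_of_respectsIso @Etale i.hom D.obj.hom).mpr inferInstance)

end Groth.Agent.FEtDesc
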