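import Groth.Agent.FEtDesc.Submersive
import Groth.Agent.FEtLib.EqLocus

/-!
# Universally submersive morphisms are descent morphisms for étale schemes
-/

universe u

open CategoryTheory CategoryTheory.Limits AlgebraicGeometry

set_option backward.isDefEq.respectTransparency false
set_option backward.isDefEq.respectTransparency.types false

namespace Groth.Agent.FEtDesc

variable {S S' X Y : Scheme.{u}}

/-- An étale morphism which becomes an isomorphism after a surjective base change is one itself. -/
theorem isIso_of_etale_of_pullback {R X X' : Scheme.{u}} (r : R ⟶ X) (g : X' ⟶ X) [Etale r] [Surjective g]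
    [IsIso (pullback.snd r g)] : IsIso r := by
  haveI : Surjective r := ⟨fun x => by
    obtain ⟨x', rfl⟩ := g.surjective x
    refine ⟨(inv (pullback.snd r g) ≫ pullback.fst r g) x', ?_⟩
    rw [← Scheme.Hom.comp_apply, Category.assoc, pullback.condition, IsIso.inv_hom_id_assoc]⟩
  haveI : Surjective (pullback.diagonal r) := ⟨fun z => by
    obtain ⟨x', hx'⟩ := g.surjective ((pullback.fst r r ≫ r) z)
    obtain ⟨w, hw, -⟩ := Scheme.Pullback.exists_preimage_pullback (f := pullback.fst r r ≫ r) (g := g) z x' hx'.symm
    let a := pullback.fst (pullback.fst r r ≫ r) g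
    have hc : a ≫ pullback.fst r r ≫ r = pullback.snd (pullback.fst r r ≫ r) g ≫ g := pullback.condition
    let l₁ : pullback (pullback.fst r r ≫ r) g ⟶ pullback r g :=
      pullback.lift (a ≫ pullback.fst r r) (pullback.snd _ _) (by rw [Category.assoc]; exact hc)
    let l₂ : pullback (pullback.fst r r ≫ r) g ⟶ pullback r g :=
      pullback.lift (a ≫ pullback.snd r r) (pullback.snd _ _)
        (by rw [Category.assoc, ← pullback.condition]; exact hc)
    have hl : l₁ = l₂ := by rw [← cancel_mono (pullback.snd r g)]; simp [l₁, l₂]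
    have h12 : a ≫ pullback.fst r r = a ≫ pullback.snd r r := by
      have := congrArg (· ≫ pullback.fst r g) hl
      simpa [l₁, l₂] using this
    have ha : (a ≫ pullback.fst r r) ≫ pullback.diagonal r = a := by
      apply pullback.hom_ext
      · simp
      · simpa using h12
    refine ⟨(a ≫ pullback.fst r r) w, ?_⟩
    rw [← Scheme.Hom.comp_apply, ha]
    exact hw⟩
  haveI : UniversallyInjective r := (UniversallyInjective.iff_diagonal r).mpr inferInstance
  haveI : IsOpenImmersion r := Groth.Agent.FEtLib.isOpenImmersion_of_etale_universallyInjective r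
  haveI : Epi r.base := (TopCat.epi_iff_surjective _).mpr r.surjective
  exact IsOpenImmersion.isIso r

/-- A universally submersive morphism is a descent morphism for étale schemes. -/
theorem existsUnique_hom_descend (g : S' ⟶ S) (hg : SGA1.UnivSubmersive g) (p : X ⟶ S) (q : Y ⟶ S)
    [Etale q] (f' : pullback p g ⟶ pullback q g) (hf' : f' ≫ pullback.snd q g = pullback.snd p g)
    (hcoc : ∀ {T : Scheme.{u}} (a b : T ⟶ pullback p g), a ≫ pullback.fst p g = b ≫ pullback.fst p g →
      a ≫ f' ≫ pullback.fst q g = b ≫ f' ≫ pullback.fst q g) :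
    ∃! u : X ⟶ Y, u ≫ q = p ∧ f' ≫ pullback.fst q g = pullback.fst p g ≫ u := by
  let pg := pullback.fst p g
  have hpg : SGA1.UnivSubmersive pg := MorphismProperty.pullback_fst _ _ hg
  haveI : Surjective pg := surjective_of_univSubmersive hpg
  let z₁ := pullback.fst p q
  let z₂ := pullback.snd p q
  let v' : pullback p g ⟶ Y := f' ≫ pullback.fst q g
  have hv' : pg ≫ p = v' ≫ q := by
    rw [pullback.condition (f := p), ← hf', Category.assoc, Category.assoc, pullback.condition]
  let u'' : pullback p g ⟶ pullback p q := pullback.lift pg v' hv'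
  have hu1 : u'' ≫ z₁ = pg := pullback.lift_fst _ _ _
  let π := pullback.fst z₁ pg
  let σ : pullback p g ⟶ pullback z₁ pg := pullback.lift u'' (𝟙 _) (by rw [hu1, Category.id_comp])
  have hπ : SGA1.UnivSubmersive π := MorphismProperty.pullback_fst _ _ hpg
  haveI : IsOpenImmersion σ := by
    haveI : Etale (σ ≫ pullback.snd z₁ pg) := by rw [pullback.lift_snd]; infer_instance
    haveI : Etale σ := Etale.of_comp σ (pullback.snd z₁ pg)
    haveI : Mono σ := by
      haveI : Mono (σ ≫ pullback.snd z₁ pg) := by rw [pullback.lift_snd]; infer_instance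
      exact mono_of_mono σ (pullback.snd z₁ pg)
    exact Groth.Agent.FEtLib.isOpenImmersion_of_etale_universallyInjective σ
  have hpre : π ⁻¹' Set.range u'' = Set.range σ := by
    ext z
    constructor
    · rintro ⟨x, hx⟩
      obtain ⟨w, hw, -⟩ := Scheme.Pullback.exists_preimage_pullback (f := π) (g := u'') z x hx.symm
      let a := pullback.fst π u''
      let b := pullback.snd π u''
      let x' := a ≫ pullback.snd z₁ pg
      have h1 : x' ≫ pg = b ≫ pg := by
        calc x' ≫ pg = (a ≫ π) ≫ z₁ := by simp only [x', π, Category.assoc, pullback.condition]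
          _ = (b ≫ u'') ≫ z₁ := by rw [pullback.condition]
          _ = b ≫ pg := by rw [Category.assoc, hu1]
      have h2 : x' ≫ u'' = a ≫ π := by
        rw [pullback.condition (f := π) (g := u'')]
        apply pullback.hom_ext
        · show (x' ≫ u'') ≫ z₁ = (b ≫ u'') ≫ z₁
          rw [Category.assoc x', Category.assoc b, hu1]; exact h1
        · simp only [u'', Category.assoc, pullback.lift_snd]; exact hcoc x' b h1
      have h3 : x' ≫ σ = a := by
        apply pullback.hom_ext
        · rw [Category.assoc, pullback.lift_fst]; exact h2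
        · rw [Category.assoc, pullback.lift_snd, Category.comp_id]
      exact ⟨x' w, by rw [← Scheme.Hom.comp_apply, h3]; exact hw⟩
    · rintro ⟨x, rfl⟩
      exact ⟨x, by rw [← Scheme.Hom.comp_apply, pullback.lift_fst]⟩
  have hopen : IsOpen (Set.range u'') := by
    rw [← (isQuotientMap_of_univSubmersive hπ).isOpen_preimage, hpre]
    exact σ.isOpenEmbedding.isOpen_range
  let R : (pullback p q).Opens := ⟨Set.range u'', hopen⟩
  let r : R.toScheme ⟶ X := R.ι ≫ z₁
  haveI : IsIso (pullback.snd r pg) := by
    let l : pullback r pg ⟶ pullback z₁ pg :=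
      pullback.lift (pullback.fst r pg ≫ R.ι) (pullback.snd r pg) (by rw [Category.assoc]; exact pullback.condition)
    let lR : pullback p g ⟶ R.toScheme := IsOpenImmersion.lift R.ι u'' (by rw [Scheme.Opens.range_ι]; rfl)
    have hlR : lR ≫ R.ι = u'' := IsOpenImmersion.lift_fac _ _ _
    let m : pullback p g ⟶ pullback r pg :=
      pullback.lift lR (𝟙 _) (by rw [Category.id_comp, reassoc_of% hlR, hu1])
    let l' : pullback r pg ⟶ pullback p g := IsOpenImmersion.lift σ l (by
      rintro _ ⟨t, rfl⟩
      rw [← hpre]
      show π (l t) ∈ Set.range u''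
      rw [← Scheme.Hom.comp_apply, pullback.lift_fst, Scheme.Hom.comp_apply]
      exact (pullback.fst r pg t).2)
    have hl' : l' ≫ σ = l := IsOpenImmersion.lift_fac _ _ _
    have hl'' : l' = pullback.snd r pg := by
      have := congrArg (· ≫ pullback.snd z₁ pg) hl'
      simpa [σ, l] using this
    refine ⟨m, ?_, pullback.lift_snd _ _ _⟩
    apply pullback.hom_ext
    · rw [Category.assoc, pullback.lift_fst, Category.id_comp, ← cancel_mono R.ι, Category.assoc, hlR]
      have := congrArg (· ≫ π) hl'
      simpa [σ, l, π, hl''] using this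
    · rw [Category.assoc, pullback.lift_snd, Category.id_comp, Category.comp_id]
  haveI : IsIso r := isIso_of_etale_of_pullback r pg
  refine ⟨inv r ≫ R.ι ≫ z₂, ⟨?_, ?_⟩, ?_⟩
  · rw [Category.assoc, Category.assoc, ← pullback.condition]
    exact (congrArg (inv r ≫ ·) (Category.assoc R.ι z₁ p).symm).trans (IsIso.inv_hom_id_assoc r p)
  · let lR : pullback p g ⟶ R.toScheme := IsOpenImmersion.lift R.ι u'' (by rw [Scheme.Opens.range_ι]; rfl)
    have hlR : lR ≫ R.ι = u'' := IsOpenImmersion.lift_fac _ _ _
    have h : lR = pg ≫ inv r := by rw [IsIso.eq_comp_inv, reassoc_of% hlR, hu1]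
    show v' = pg ≫ inv r ≫ R.ι ≫ z₂
    rw [← reassoc_of% h, reassoc_of% hlR, pullback.lift_snd]
  · rintro v ⟨hv1, hv2⟩
    let h : X ⟶ pullback p q := pullback.lift (𝟙 _) v (by rw [Category.id_comp, hv1])
    have hh : pg ≫ h = u'' := by
      apply pullback.hom_ext
      · simp [h, u'']
      · simp only [h, u'', Category.assoc, pullback.lift_snd]; exact hv2.symm
    let hR : X ⟶ R.toScheme := IsOpenImmersion.lift R.ι h (by
      rw [Scheme.Opens.range_ι]
      rintro _ ⟨x, rfl⟩
      obtain ⟨x', rfl⟩ := pg.surjective x
      exact ⟨x', by rw [← hh, Scheme.Hom.comp_apply]⟩)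
    have hhR : hR ≫ R.ι = h := IsOpenImmersion.lift_fac _ _ _
    have : hR = inv r := IsIso.eq_inv_of_inv_hom_id (by rw [reassoc_of% hhR, pullback.lift_fst])
    rw [← this, reassoc_of% hhR, pullback.lift_snd]

end Groth.Agent.FEtDesc
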