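import Groth.Agent.Desc19b.EffQuasiAffine
import Groth.Agent.Desc19b.SubQuot
import Mathlib.AlgebraicGeometry.Morphisms.UniversallyInjective

/-!
# fpqc descent along universally injective morphisms

Gluing bijections do not move points, so every open is stable and affine opens have quotients.
-/

set_option linter.style.haveILetI false
set_option backward.isDefEq.respectTransparency false
set_option backward.isDefEq.respectTransparency.types false

universe u

open CategoryTheory CategoryTheory.Limits AlgebraicGeometry Desc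
open Groth.Agent.Desc19b

namespace Groth.Agent.FEtDesc

variable {X S : Scheme.{u}} {g : X ⟶ S}

/-- Universally injective morphisms are separated. -/
theorem isSeparated_of_universallyInjective (f : X ⟶ S) [UniversallyInjective f] : IsSeparated f := by
  have : Surjective (pullback.diagonal f) := (UniversallyInjective.iff_diagonal f).mp inferInstance
  exact ⟨IsClosedImmersion.of_isPreimmersion _ (by rw [(pullback.diagonal f).surjective.range_eq]; exact isClosed_univ)⟩

theorem φ_apply [UniversallyInjective g] (D : SchDD g) {T : Scheme.{u}} (x y : T ⟶ X) (h : x ≫ g = y ≫ g)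
    (t : Lifts D.obj x) (z : T) : (D.φ x y h t).1 z = t.1 z := by
  haveI : Surjective (pullback.diagonal g) := (UniversallyInjective.iff_diagonal g).mp inferInstance
  let k := pullback.fst (pullback.lift x y h) (pullback.diagonal g)
  have hkx : k ≫ x = k ≫ y := by
    have := pullback.condition (f := pullback.lift x y h) (g := pullback.diagonal g)
    have h1 := congrArg (· ≫ pullback.fst g g) this
    have h2 := congrArg (· ≫ pullback.snd g g) this
    simp only [Category.assoc, pullback.lift_fst, pullback.lift_snd, pullback.diagonal_fst,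
      pullback.diagonal_snd] at h1 h2
    exact h1.trans h2.symm
  have hcong : ∀ {T' : Scheme.{u}} (x' y' : T' ⟶ X) (h' : x' ≫ g = y' ≫ g) (v : Lifts D.obj x'),
      x' = y' → (D.φ x' y' h' v).1 = v.1 := by
    intro T' x' y' h' v e
    subst e
    rw [D.φ_self]
  let t' : Lifts D.obj (k ≫ x) := ⟨k ≫ t.1, by rw [Category.assoc, t.2]⟩
  have hk : (k ≫ x) ≫ g = (k ≫ y) ≫ g := by rw [Category.assoc, h, Category.assoc]
  have e := (D.φ_natural k x y h hk t t' rfl).symm.trans (hcong _ _ hk t' hkx)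
  obtain ⟨w, rfl⟩ := k.surjective z
  exact congrArg (fun m => m w) e

variable [UniversallyInjective g] (D : SchDD g) (O : D.obj.left.Opens)

theorem φ_range {T : Scheme.{u}} (x y : T ⟶ X) (h : x ≫ g = y ≫ g)
    (t : Lifts (Over.mk (O.ι ≫ D.obj.hom)) x) :
    Set.range (D.φ x y h ⟨t.1 ≫ O.ι, (Category.assoc _ _ _).trans t.2⟩).1 ⊆ Set.range O.ι := by
  rintro _ ⟨z, rfl⟩
  rw [φ_apply]
  exact ⟨t.1 z, (Scheme.Hom.comp_apply _ _ _).symm⟩

/-- The gluing map of the restriction to an open. -/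
noncomputable def resMap {T : Scheme.{u}} (x y : T ⟶ X) (h : x ≫ g = y ≫ g)
    (t : Lifts (Over.mk (O.ι ≫ D.obj.hom)) x) : Lifts (Over.mk (O.ι ≫ D.obj.hom)) y :=
  ⟨IsOpenImmersion.lift O.ι _ (φ_range D O x y h t), by
    show _ ≫ O.ι ≫ D.obj.hom = y
    rw [IsOpenImmersion.lift_fac_assoc]
    exact (D.φ x y h _).2⟩

theorem resMap_val {T : Scheme.{u}} (x y : T ⟶ X) (h : x ≫ g = y ≫ g)
    (t : Lifts (Over.mk (O.ι ≫ D.obj.hom)) x) :
    (resMap D O x y h t).1 ≫ O.ι = (D.φ x y h ⟨t.1 ≫ O.ι, (Category.assoc _ _ _).trans t.2⟩).1 :=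
  IsOpenImmersion.lift_fac _ _ _

theorem resMap_ext {T : Scheme.{u}} {x : T ⟶ X} {a b : Lifts (Over.mk (O.ι ≫ D.obj.hom)) x}
    (h : a.1 ≫ O.ι = b.1 ≫ O.ι) : a = b :=
  Subtype.ext ((cancel_mono O.ι).mp h)

theorem resMap_comp {T : Scheme.{u}} (x y w : T ⟶ X) (h : x ≫ g = y ≫ g) (h' : y ≫ g = w ≫ g)
    (t : Lifts (Over.mk (O.ι ≫ D.obj.hom)) x) :
    resMap D O y w h' (resMap D O x y h t) = resMap D O x w (h.trans h') t := by
  refine resMap_ext D O ?_
  rw [resMap_val D O y w, resMap_val D O x w, ← D.φ_comp x y w h h']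
  congr 2
  exact Subtype.ext (resMap_val D O x y h t)

theorem resMap_self {T : Scheme.{u}} (x : T ⟶ X) (t : Lifts (Over.mk (O.ι ≫ D.obj.hom)) x) :
    resMap D O x x rfl t = t :=
  resMap_ext D O (by rw [resMap_val, D.φ_self])

/-- Restriction of a descent datum to an open. -/
noncomputable def restr : SchDD g where
  obj := Over.mk (O.ι ≫ D.obj.hom)
  φ T x₀ x₁ h :=
    { toFun := resMap D O x₀ x₁ h
      invFun := resMap D O x₁ x₀ h.symm
      left_inv := fun t => (resMap_comp D O _ _ _ h h.symm t).trans (resMap_self D O x₀ t)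
      right_inv := fun t => (resMap_comp D O _ _ _ h.symm h t).trans (resMap_self D O x₁ t) }
  φ_natural T T' k x₀ x₁ h h' v v' hv' := by
    refine (cancel_mono O.ι).mp ?_
    show (resMap D O _ _ h' v').1 ≫ O.ι = (k ≫ (resMap D O x₀ x₁ h v).1) ≫ O.ι
    refine ((resMap_val D O _ _ h' v').trans ?_).trans
      ((congrArg (k ≫ ·) (resMap_val D O x₀ x₁ h v)).symm.trans (Category.assoc _ _ _).symm)
    exact D.φ_natural k x₀ x₁ h h' ⟨v.1 ≫ O.ι, (Category.assoc _ _ _).trans v.2⟩ _
      ((congrArg (· ≫ O.ι) hv').trans (Category.assoc _ _ _))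
  φ_self T x v := resMap_self D O x v
  φ_comp T x₀ x₁ x₂ h₀₁ h₁₂ v := resMap_comp D O _ _ _ h₀₁ h₁₂ v

/-- The inclusion of the restriction. -/
noncomputable def restrι : restr D O ⟶ D :=
  ⟨Over.homMk O.ι rfl, fun T x₀ x₁ h v w hw => by
    show _ = (resMap D O x₀ x₁ h v).1 ≫ O.ι
    rw [resMap_val]
    congr 2
    exact Subtype.ext hw⟩

variable [Flat g] [Surjective g] [QuasiCompact g]

theorem restr_isEffective (W : S.affineOpens) (hO : IsAffineOpen O)
    (hOW : ∀ z : (O : Scheme.{u}), (O.ι ≫ D.obj.hom ≫ g) z ∈ W.1) :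
    ∃ U : Over S, Nonempty ((Desc.toDD g).obj U ≅ restr D O) := by
  have hf : Presieve.ofArrows (fun _ : PUnit.{u + 1} => X) (fun _ => g) ∈ Scheme.fpqcPrecoverage S := by
    rw [Presieve.ofArrows_pUnit]; exact g.singleton_mem_fpqcPrecoverage
  let E := (SchDDFam.ofSchDD g).obj (restr D O)
  obtain ⟨n, a, V, hV, e, hfl, hsurj⟩ := exists_affine_pieces hf W
  let B := fun k => Γ(X, V k)
  let b : ∀ k, Γ(S, W.1) ⟶ B k := fun k => g.appLE W.1 (V k) (e k)
  let v : ∀ k, Spec (B k) ⟶ X := fun k => (hV k).fromSpec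
  have hv : ∀ k, v k ≫ g = Spec.map (b k) ≫ W.2.fromSpec := fun k =>
    (IsAffineOpen.SpecMap_appLE_fromSpec _ W.2 (hV k) (e k)).symm
  let D' := PullRefine.PD (α := a) (g := v) (u₀ := fun k => Spec.map (b k) ≫ W.2.fromSpec) hv E
  have hs : ∀ y, ∃ k z, Spec.map (b k) z = y := fun y => by
    obtain ⟨k, z, hz⟩ := hsurj (W.2.isoSpec.inv y)
    exact ⟨k, z, W.2.isoSpec.inv.isOpenEmbedding.injective (by rw [← hz, Scheme.Hom.comp_apply])⟩
  haveI : IsSeparated g := isSeparated_of_universallyInjective g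
  haveI : IsAffine W.1.toScheme := W.2
  let G := g ⁻¹ᵁ W.1
  haveI : G.toScheme.IsSeparated := by
    haveI : IsSeparated (g ∣_ W.1) :=
      MorphismProperty.of_isPullback (P := @IsSeparated) (isPullback_morphismRestrict g W.1).flip inferInstance
    constructor
    rw [Subsingleton.elim (terminal.from G.toScheme) ((g ∣_ W.1) ≫ terminal.from _)]
    infer_instance
  have hqa : ∀ k, (D'.obj k).left.IsQuasiAffine := fun k => by
    haveI : IsAffine O.toScheme := hO
    let o : O.toScheme ⟶ G.toScheme := IsOpenImmersion.lift G.ι (O.ι ≫ D.obj.hom) (by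
      rw [Scheme.Opens.range_ι]
      rintro _ ⟨z, rfl⟩
      show g ((O.ι ≫ D.obj.hom) z) ∈ W.1
      rw [← Scheme.Hom.comp_apply, Category.assoc]
      exact hOW z)
    let v' : Spec (B k) ⟶ G.toScheme := IsOpenImmersion.lift G.ι (v k) (by
      rw [Scheme.Opens.range_ι]
      rintro _ ⟨z, rfl⟩
      have h : (v k ≫ g) z ∈ Set.range W.2.fromSpec := by
        rw [hv, Scheme.Hom.comp_apply]; exact ⟨_, rfl⟩
      rw [W.2.range_fromSpec, Scheme.Hom.comp_apply] at h
      exact h)
    haveI : IsAffineHom (v' ≫ terminal.from G.toScheme) := inferInstance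
    haveI : IsAffineHom v' := IsAffineHom.of_comp v' (terminal.from G.toScheme)
    haveI : IsAffine (pullback o v') := inferInstance
    haveI : IsAffine (pullback (O.ι ≫ D.obj.hom) (v k)) := @IsAffine.of_isIso _ (pullback o v')
      ((pullback.congrHom (IsOpenImmersion.lift_fac G.ι (O.ι ≫ D.obj.hom) _).symm
        (IsOpenImmersion.lift_fac G.ι (v k) _).symm) ≪≫
        limit.isoLimitCone ⟨_, pullbackIsPullbackOfCompMono o v' G.ι⟩).hom inferInstance inferInstance
    show (pullback (O.ι ≫ D.obj.hom) (v k)).IsQuasiAffine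
    infer_instance
  obtain ⟨U, π, q, hq, hinv⟩ := hasAffineQuotient_of_isQuasiAffine W.2.fromSpec b hfl hs D' hqa
  let w : ∀ k, Spec (B k) ⟶ W.1.toScheme := fun k => Spec.map (b k) ≫ W.2.isoSpec.inv
  have hw : ∀ k, w k ≫ W.1.ι = v k ≫ g := fun k => by
    rw [hv, Category.assoc, IsAffineOpen.isoSpec_inv_ι]
  haveI : ∀ k, Flat (w k) := fun k => by
    haveI : Flat (Spec.map (b k)) := (HasRingHomProperty.Spec_iff (P := @Flat)).2 (hfl k)
    infer_instance
  have hmem := Quot.finite_family_mem w fun y => hsurj y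
  have hmemW : InW W.1 (π ≫ W.2.fromSpec) := fun t => by
    have h : (π ≫ W.2.fromSpec) t ∈ Set.range W.2.fromSpec := ⟨π t, (Scheme.Hom.comp_apply _ _ _).symm⟩
    rw [W.2.range_fromSpec] at h
    exact h
  obtain ⟨Q⟩ : Nonempty (Quot E W.1) := by
    refine Quot.nonempty_of_pieces a v (fun s hs => Quot.cover_of_open w hw hmem s hs) (π ≫ W.2.fromSpec) hmemW q
      (fun k => ?_) (fun x y h t => ?_)
    · rw [hv]
      exact ⟨⟨by rw [← Category.assoc, (hq k).w, Category.assoc]; rfl⟩,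
        ⟨PullbackCone.IsLimit.mk _ (fun s => (hq k).lift s.fst s.snd
            (by rw [← cancel_mono W.2.fromSpec, Category.assoc, Category.assoc]; exact s.condition))
          (fun s => (hq k).lift_fst _ _ _) (fun s => (hq k).lift_snd _ _ _)
          (fun s m h1 h2 => (hq k).hom_ext (h1.trans ((hq k).lift_fst _ _ _).symm)
            (h2.trans ((hq k).lift_snd _ _ _).symm))⟩⟩
    · exact hinv x y (by rw [← hv, ← hv]; exact h) t
  -- everything in the restricted datum lies over `W`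
  have hall : ∀ {T : Scheme.{u}} {i : PUnit.{u + 1}} (x : T ⟶ X), Lifts (E.obj i) x → InW W.1 (x ≫ g) := by
    intro T i x t z
    let t' : T ⟶ O.toScheme := t.1
    have h2 : t' ≫ O.ι ≫ D.obj.hom ≫ g = x ≫ g := by
      have : t' ≫ O.ι ≫ D.obj.hom = x := t.2
      rw [← this]; simp
    rw [← h2, Scheme.Hom.comp_apply]
    exact hOW (t' z)
  have hall' : ∀ {T : Scheme.{u}} (x : T ⟶ X), {τ : T ⟶ Q.U // τ ≫ Q.π = x ≫ g} → InW W.1 (x ≫ g) :=
    fun x τ => by rw [← τ.2]; exact Q.mem.comp _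
  let Q' : Quot E ⊤ :=
    { U := Q.U
      π := Q.π
      mem := inW_top _
      e := fun {T i} x _ =>
        { toFun := fun t => Q.e x (hall x t) t
          invFun := fun τ => (Q.e x (hall' x τ)).symm τ
          left_inv := fun t => (Q.e x (hall x t)).symm_apply_apply t
          right_inv := fun τ => (Q.e x (hall' x τ)).apply_symm_apply τ }
      nat := fun {T T'} k {i} {x} hx {y} hy hk t t' ht => Q.nat k (hall x t) (hall y t') hk t t' ht
      inv := fun {T i j x y} h hx hy t => Q.inv h (hall x t) (hall (i := j) y (E.φ (j := j) x y h t)) t }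
  obtain ⟨U', ⟨e'⟩⟩ := Quot.isEffective Q'
  exact ⟨U', ⟨(SchDDFam.toSchDD g).mapIso e'⟩⟩

omit [UniversallyInjective g] [Flat g] [Surjective g] [QuasiCompact g] in
theorem exists_affine_nhd (v : D.obj.left) :
    ∃ (W : S.affineOpens) (O : D.obj.left.Opens), IsAffineOpen O ∧ v ∈ O ∧
      ∀ z : (O : Scheme.{u}), (O.ι ≫ D.obj.hom ≫ g) z ∈ W.1 := by
  obtain ⟨W, hW, hvW, -⟩ := exists_isAffineOpen_mem_and_subset (U := ⊤) (x := g (D.obj.hom v)) trivial
  obtain ⟨O, hO, hvO, hOW⟩ := exists_isAffineOpen_mem_and_subset (U := (D.obj.hom ≫ g) ⁻¹ᵁ W) (x := v)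
    (show (D.obj.hom ≫ g) v ∈ W by rwa [Scheme.Hom.comp_apply])
  exact ⟨⟨W, hW⟩, O, hO, hvO, fun z => hOW z.2⟩

/-- Descent along universally injective fpqc morphisms is effective. -/
theorem isEffective_radicial : ∃ U : Over S, Nonempty ((Desc.toDD g).obj U ≅ D) := by
  have hf : Presieve.ofArrows (fun _ : PUnit.{u + 1} => X) (fun _ => g) ∈ Scheme.fpqcPrecoverage S := by
    rw [Presieve.ofArrows_pUnit]; exact g.singleton_mem_fpqcPrecoverage
  obtain ⟨U, ⟨e⟩⟩ := SubQuotGlue.isEffective (D := (SchDDFam.ofSchDD g).obj D) hf fun i v => by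
    obtain ⟨W, O, hO, hvO, hOW⟩ := exists_affine_nhd D v
    obtain ⟨U', ⟨e'⟩⟩ := restr_isEffective D O W hO hOW
    let a := (SchDDFam.ofSchDD g).map (restrι D O)
    haveI : ∀ i, IsOpenImmersion (a.hom i).left := fun _ => inferInstanceAs (IsOpenImmersion O.ι)
    exact ⟨⟨_, SubQuot.exists_of_open_sub a ⟨U', ⟨(SchDDFam.ofSchDD g).mapIso e'⟩⟩⟩, ⟨⟨v, hvO⟩, rfl⟩⟩
  exact ⟨U, ⟨(SchDDFam.toSchDD g).mapIso e⟩⟩

end Groth.Agent.FEtDesc
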