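import Groth.Prelude.Def_SGA1
import Mathlib.AlgebraicGeometry.Morphisms.Proper
import Mathlib.AlgebraicGeometry.Morphisms.UniversallyOpen
import Mathlib.AlgebraicGeometry.PullbackCarrier
import Mathlib.AlgebraicGeometry.Morphisms.Immersion

/-!
# Universally submersive morphisms: descent of topological properties
-/

universe u

open CategoryTheory CategoryTheory.Limits AlgebraicGeometry MorphismProperty

set_option backward.isDefEq.respectTransparency false
set_option backward.isDefEq.respectTransparency.types false

namespace Groth.Agent.FEtDesc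

variable {X Y X' Y' : Scheme.{u}} {pX : X' ⟶ X} {f' : X' ⟶ Y'} {f : X ⟶ Y} {pY : Y' ⟶ Y}

instance : (SGA1.UnivSubmersive.{u}).IsStableUnderBaseChange :=
  MorphismProperty.universally_isStableUnderBaseChange _

theorem isQuotientMap_of_univSubmersive {g : X ⟶ Y} (hg : SGA1.UnivSubmersive g) :
    Topology.IsQuotientMap g :=
  MorphismProperty.universally_le _ _ hg

theorem surjective_of_univSubmersive {g : X ⟶ Y} (hg : SGA1.UnivSubmersive g) : Surjective g :=
  ⟨(isQuotientMap_of_univSubmersive hg).surjective⟩

theorem preimage_image (sq : IsPullback pX f' f pY) (U : Set X) : pY ⁻¹' (f '' U) = f' '' (pX ⁻¹' U) := by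
  ext y
  constructor
  · rintro ⟨x, hx, hxy⟩
    obtain ⟨z, hz1, hz2⟩ := Scheme.exists_preimage_of_isPullback sq x y hxy
    exact ⟨z, (hz1 ▸ hx : pX z ∈ U), hz2⟩
  · rintro ⟨z, hz, rfl⟩
    exact ⟨pX z, hz, by rw [← Scheme.Hom.comp_apply, sq.w, Scheme.Hom.comp_apply]⟩

theorem isOpenMap_of_isPullback (sq : IsPullback pX f' f pY) (hq : Topology.IsQuotientMap pY)
    (h : IsOpenMap f') : IsOpenMap f := fun U hU => by
  rw [← hq.isOpen_preimage, preimage_image sq]
  exact h _ (hU.preimage pX.continuous)

theorem isClosedMap_of_isPullback (sq : IsPullback pX f' f pY) (hq : Topology.IsQuotientMap pY)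
    (h : IsClosedMap f') : IsClosedMap f := fun U hU => by
  rw [← hq.isClosed_preimage, preimage_image sq]
  exact h _ (hU.preimage pX.continuous)

theorem universally_of_isPullback {Q : MorphismProperty Scheme.{u}}
    (hQ : ∀ {A B A' B' : Scheme.{u}} {pA : A' ⟶ A} {k' : A' ⟶ B'} {k : A ⟶ B} {pB : B' ⟶ B},
      IsPullback pA k' k pB → Topology.IsQuotientMap pB → Q k' → Q k)
    (sq : IsPullback pX f' f pY) (hs : SGA1.UnivSubmersive pY) (h : Q.universally f') : Q.universally f := by
  intro A B a b k sqk'
  have sqk := sqk'.flip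
  have sqB := IsPullback.of_hasPullback b pY
  have hB : SGA1.UnivSubmersive (pullback.fst b pY) := MorphismProperty.pullback_fst _ _ hs
  have sqA := IsPullback.of_hasPullback k (pullback.fst b pY)
  refine hQ sqA (isQuotientMap_of_univSubmersive hB) ?_
  let l : pullback k (pullback.fst b pY) ⟶ X' :=
    sq.lift (pullback.fst _ _ ≫ a) (pullback.snd _ _ ≫ pullback.snd b pY) (by
      rw [Category.assoc, sqk.w, reassoc_of% sqA.w, Category.assoc, pullback.condition])
  have big : IsPullback (pullback.fst k (pullback.fst b pY) ≫ a) (pullback.snd k (pullback.fst b pY)) f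
      (pullback.fst b pY ≫ b) := sqA.paste_horiz sqk
  rw [sqB.w] at big
  have : IsPullback l (pullback.snd k (pullback.fst b pY)) f' (pullback.snd b pY) :=
    IsPullback.of_right (by rw [sq.lift_fst]; exact big) (sq.lift_snd _ _ _) sq
  exact h _ _ _ this.flip

theorem universallyOpen_of_isPullback (sq : IsPullback pX f' f pY) (hs : SGA1.UnivSubmersive pY)
    [h : UniversallyOpen f'] : UniversallyOpen f :=
  ⟨universally_of_isPullback (fun sq hq hk => isOpenMap_of_isPullback sq hq hk) sq hs h.universally_isOpenMap⟩

theorem universallyClosed_of_isPullback (sq : IsPullback pX f' f pY) (hs : SGA1.UnivSubmersive pY)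
    [h : UniversallyClosed f'] : UniversallyClosed f :=
  ⟨universally_of_isPullback (fun sq hq hk => isClosedMap_of_isPullback sq hq hk) sq hs h.universally_isClosedMap⟩

theorem isSeparated_of_isPullback (sq : IsPullback pX f' f pY) (hs : SGA1.UnivSubmersive pY)
    [IsSeparated f'] : IsSeparated f := by
  let d := pullback.fst f f ≫ f
  let q : pullback d pY ⟶ pullback f f := pullback.fst d pY
  have hq : SGA1.UnivSubmersive q := MorphismProperty.pullback_fst _ _ hs
  have w₁ : (q ≫ pullback.fst f f) ≫ f = pullback.snd d pY ≫ pY :=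
    (Category.assoc _ _ _).trans pullback.condition
  have w₂ : (q ≫ pullback.snd f f) ≫ f = pullback.snd d pY ≫ pY := by
    rw [Category.assoc, ← pullback.condition (f := f) (g := f), ← Category.assoc]; exact w₁
  let φ : pullback d pY ⟶ pullback f' f' := pullback.lift (sq.lift _ _ w₁) (sq.lift _ _ w₂) (by simp)
  let μ : pullback f' f' ⟶ pullback f f := pullback.map f' f' f f pX pX pY sq.w.symm sq.w.symm
  have hφ : φ ≫ μ = q := by apply pullback.hom_ext <;> simp [φ, μ, pullback.map]
  have hμ : pullback.diagonal f' ≫ μ = pX ≫ pullback.diagonal f := by apply pullback.hom_ext <;> simp [μ, pullback.map]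
  have hr : q ⁻¹' Set.range (pullback.diagonal f) = φ ⁻¹' Set.range (pullback.diagonal f') := by
    ext z
    constructor
    · rintro ⟨x, hx⟩
      obtain ⟨w, -, hw⟩ := Scheme.Pullback.exists_preimage_pullback (f := pullback.diagonal f) (g := q) x z hx
      have hc := pullback.condition (f := pullback.diagonal f) (g := q)
      have h1 := congrArg (· ≫ pullback.fst f f) hc
      have h2 := congrArg (· ≫ pullback.snd f f) hc
      simp only [Category.assoc, pullback.diagonal_fst, pullback.diagonal_snd, Category.comp_id] at h1 h2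
      let b := pullback.snd (pullback.diagonal f) q
      let m : pullback (pullback.diagonal f) q ⟶ X' :=
        sq.lift (pullback.fst (pullback.diagonal f) q) (b ≫ pullback.snd d pY)
          (by rw [h1]; simp only [Category.assoc]; rw [← w₁]; simp [b])
      have hm : b ≫ φ = m ≫ pullback.diagonal f' := by
        apply pullback.hom_ext
        · apply sq.hom_ext
          · simp [φ, m, b, ← h1]
          · simp [φ, m, b]
        · apply sq.hom_ext
          · simp [φ, m, b, ← h2]
          · simp [φ, m, b]
      refine ⟨m w, ?_⟩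
      rw [← hw, ← Scheme.Hom.comp_apply, ← hm, Scheme.Hom.comp_apply]
    · rintro ⟨w, hw⟩
      refine ⟨pX w, ?_⟩
      rw [← Scheme.Hom.comp_apply, ← hμ, Scheme.Hom.comp_apply, hw, ← Scheme.Hom.comp_apply, hφ]
  refine ⟨IsClosedImmersion.of_isPreimmersion _ ?_⟩
  rw [← (isQuotientMap_of_univSubmersive hq).isClosed_preimage, hr]
  exact (pullback.diagonal f').isClosedEmbedding.isClosed_range.preimage φ.continuous

end Groth.Agent.FEtDesc
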